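import Cfsg.Agent.H706.ESeven.NNP
import Cfsg.Agent.H706.ESeven.Ctx
import Mathlib.Tactic

/-!
# S3482, rows `PΩ±`: the common part (helper706)
-/

set_option autoImplicit false

namespace Cfsg.Agent.H706.ESeven

open Cfsg Cfsg.Agent.H436 Cfsg.Agent.H962.E7 Cfsg.Agent.H72.AdjOrth Cfsg.Agent.H377

universe u

theorem exists_odd_prime {v : ℕ} (hv : 2 ≤ v) (h3 : v ≠ 3) : ∃ s, s.Prime ∧ s ≠ 2 ∧ (s ∣ v + 1 ∨ s ∣ v - 1) := by
  have key : ∀ N : ℕ, N % 2 = 1 → N ≠ 1 → ∃ s, s.Prime ∧ s ≠ 2 ∧ s ∣ N := by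
    intro N hN h1
    refine ⟨N.minFac, Nat.minFac_prime h1, ?_, Nat.minFac_dvd N⟩
    intro h
    have := Nat.minFac_dvd N
    rw [h] at this
    omega
  rcases Nat.mod_two_eq_zero_or_one v with h | h
  · obtain ⟨s, h1, h2, h4⟩ := key (v + 1) (by omega) (by omega)
    exact ⟨s, h1, h2, Or.inl h4⟩
  · obtain ⟨j, hj⟩ : ∃ j, v = 2 * j + 1 := ⟨v / 2, by omega⟩
    rcases Nat.mod_two_eq_zero_or_one j with h' | h'
    · obtain ⟨s, h1, h2, h4⟩ := key (j + 1) (by omega) (by omega)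
      refine ⟨s, h1, h2, Or.inl (h4.trans ⟨2, by omega⟩)⟩
    · obtain ⟨s, h1, h2, h4⟩ := key j (by omega) (by omega)
      refine ⟨s, h1, h2, Or.inr (h4.trans ⟨2, by omega⟩)⟩

section row

variable {p k : ℕ} {S : Type u} [Group S] {F : Type} [Field F] [Finite F] {m : ℕ} {δ : ℤ}

/-- the classes of nonadjacent primes -/
theorem ee_ne (R : Row p k S) (C : Ctx S F m δ) {a b x y : ℕ} (ha : a ∈ C4) (hb : b ∈ C4) (hab : a ≠ b)
    (hx : Prim (p ^ k) a x) (hy : Prim (p ^ k) b y) (hd : x ∣ Nat.card S) (hxv : ¬ x ∣ Nat.card F)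
    (hyv : ¬ y ∣ Nat.card F) : ee (Nat.card F) x ≠ ee (Nat.card F) y := by
  intro h
  have h2 : ∀ c ∈ C4, 2 ≤ c := by decide
  have hx2 := hx.odd (h2 a ha)
  have hy2 := hy.odd (h2 b hb)
  refine R.nad a (C4_sub ha) b (C4_sub hb) hab x y hx hy
    (C.clq hx.prime hy.prime (by omega) (by omega) ?_ hxv hyv hd h)
  rintro rfl
  exact hab (hx.unique hy)

theorem c4_odd {a x : ℕ} (ha : a ∈ C4) (hx : Prim (p ^ k) a x) : Odd x ∧ x ≠ 2 := by
  have h2 : ∀ c ∈ C4, 2 ≤ c := by decide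
  have hx2 := hx.odd (h2 a ha)
  exact ⟨Nat.odd_iff.2 hx2, by omega⟩

theorem not_adj (R : Row p k S) {a b x y : ℕ} (ha : a ∈ C4) (hb : b ∈ C4) (hab : a ≠ b)
    (hx : Prim (p ^ k) a x) (hy : Prim (p ^ k) b y) : ¬ ∃ g : S, orderOf g = x * y :=
  R.nad a (C4_sub ha) b (C4_sub hb) hab x y hx hy

/-- the top classes of the primes of the classes 14, 18 -/
theorem top_a (R : Row p k S) (C : Ctx S F m δ) {a x : ℕ} (ha : a = 14 ∨ a = 18) (hx : Prim (p ^ k) a x)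
    (hd : x ∣ Nat.card S) : ¬ x ∣ Nat.card F ∧ Top m δ (ee (Nat.card F) x) :=
  C.top hx.prime (c4_odd (mem_C4 ha) hx).2 hd (no_two R ha hx)

/-- `p = 2` -/
theorem two_false (R : Row p k S) (hp : p = 2) (C : Ctx S F m δ) : False := by
  have key : ∀ a ∈ C4, ∃ r, Prim (p ^ k) a r ∧ r ∣ Nat.card S ∧ ¬ r ∣ Nat.card F ∧
      Top m δ (ee (Nat.card F) r) := by
    intro a ha
    obtain ⟨r, h1, h2⟩ := ex_of_fl R ha (R.even hp a ha)
    exact ⟨r, h1, h2, C.top h1.prime (c4_odd ha h1).2 h2 (no_two' R hp ha h1)⟩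
  obtain ⟨r1, a1, b1, c1, d1⟩ := key 7 (by decide)
  obtain ⟨r2, a2, b2, c2, d2⟩ := key 9 (by decide)
  obtain ⟨r3, a3, b3, c3, d3⟩ := key 14 (by decide)
  obtain ⟨r4, a4, b4, c4, d4⟩ := key 18 (by decide)
  have h12 := ee_ne R C (by decide) (by decide) (by decide) a1 a2 b1 c1 c2
  have h13 := ee_ne R C (by decide) (by decide) (by decide) a1 a3 b1 c1 c3
  have h14 := ee_ne R C (by decide) (by decide) (by decide) a1 a4 b1 c1 c4
  have h23 := ee_ne R C (by decide) (by decide) (by decide) a2 a3 b2 c2 c3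
  have h24 := ee_ne R C (by decide) (by decide) (by decide) a2 a4 b2 c2 c4
  have h34 := ee_ne R C (by decide) (by decide) (by decide) a3 a4 b3 c3 c4
  unfold Top at d1 d2 d3 d4
  generalize ee (Nat.card F) r1 = e1 at *
  generalize ee (Nat.card F) r2 = e2 at *
  generalize ee (Nat.card F) r3 = e3 at *
  generalize ee (Nat.card F) r4 = e4 at *
  rcases C.hδ with hδ | hδ
  · have f : ∀ {e : ℕ}, (e = 2 * (m - 1) ∨ (Odd (m - 1) ∧ e = m - 1) ∨ (δ = 1 ∧ Odd m ∧ e = m) ∨ (δ = -1 ∧ e = 2 * m)) →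
        e = 2 * (m - 1) ∨ e = m - 1 ∨ e = m := by
      intro e h
      rcases h with h | ⟨-, h⟩ | ⟨-, -, h⟩ | ⟨h, -⟩
      · exact Or.inl h
      · exact Or.inr (Or.inl h)
      · exact Or.inr (Or.inr h)
      · omega
    have := f d1
    have := f d2
    have := f d3
    have := f d4
    omega
  · have f : ∀ {e : ℕ}, (e = 2 * (m - 1) ∨ (Odd (m - 1) ∧ e = m - 1) ∨ (δ = 1 ∧ Odd m ∧ e = m) ∨ (δ = -1 ∧ e = 2 * m)) →
        e = 2 * (m - 1) ∨ e = m - 1 ∨ e = 2 * m := by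
      intro e h
      rcases h with h | ⟨-, h⟩ | ⟨h, -⟩ | ⟨-, h⟩
      · exact Or.inl h
      · exact Or.inr (Or.inl h)
      · omega
      · exact Or.inr (Or.inr h)
    have := f d1
    have := f d2
    have := f d3
    have := f d4
    omega

/-- **The clash**: `s` odd prime dividing `v² - 1`, adjacent to a prime of class 14 or 18 and not to 2 … -/
theorem clash_s (R : Row p k S) (C : Ctx S F m δ) {a b x w s : ℕ} (ha : a = 14 ∨ a = 18) (hb : b = 7 ∨ b = 9)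
    (hx : Prim (p ^ k) a x) (hw : Prim (p ^ k) b w) (hwt : wO (Nat.card F) w + 2 ≤ m)
    (hs : s.Prime) (hs2 : s ≠ 2) (hsv : s ∣ Nat.card F + 1 ∨ s ∣ Nat.card F - 1) (h1 : ∃ g : S, orderOf g = x * s) :
    False := by
  have hsv2 : s ∣ Nat.card F ^ 2 - 1 := by
    have e1 : Nat.card F ^ (2 * 1) - 1 = (Nat.card F ^ 1 + 1) * (Nat.card F ^ 1 - 1) := sub_mul_add
    rw [mul_one, pow_one] at e1
    rw [e1]
    rcases hsv with h | h
    · exact h.mul_right _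
    · exact h.mul_left _
  obtain ⟨-, h2, -⟩ := one_of_dvd (F := F) hs hs2 hsv2
  have hab : a ≠ b := by rcases ha with rfl | rfl <;> rcases hb with rfl | rfl <;> decide
  have hne : w ≠ s := by
    rintro rfl
    exact not_adj R (mem_C4 ha) (mem_C4' hb) hab hx hw h1
  exact clash R ha hb hx hw hs hs2 h1 (C.adj hw.prime hs hne (by rw [h2]; omega))

end row

end Cfsg.Agent.H706.ESeven
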