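import Cfsg.Agent.H962.E7.Def
import Mathlib.Tactic

/-!
# S3482, rows `PΩ±`: arithmetic (helper706)
-/

set_option autoImplicit false

namespace Cfsg.Agent.H706.ESeven

open Cfsg.Agent.H436 Cfsg.Agent.H962.E7

/-- `Φ₁₄(q)` and `Φ₁₈(q)` -/
def Pa (q : ℤ) : ℤ := q ^ 6 - q ^ 5 + q ^ 4 - q ^ 3 + q ^ 2 - q + 1
def Pb (q : ℤ) : ℤ := q ^ 6 - q ^ 3 + 1

theorem num_core {q X Y e : ℤ} (hq : 13 ≤ q) (hX : 1 ≤ X) (he : |e| ≤ 42) (h : X * Pa q - Y * Pb q = e) :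
    q ^ 2 ≤ X := by
  obtain ⟨he1, he2⟩ := abs_le.1 he
  unfold Pa Pb at h
  set c := X - Y with hc
  set D := q ^ 5 - q ^ 4 - q ^ 2 + q with hD
  have hq2 : 169 ≤ q ^ 2 := by nlinarith
  have hq3 : 2197 ≤ q ^ 3 := by nlinarith
  have hq4 : 28561 ≤ q ^ 4 := by nlinarith
  have hD1 : 1000 ≤ D := by
    have h1 : D = q * (q - 1) * (q ^ 3 - 1) := by rw [hD]; ring
    rw [h1]
    have h2 : 156 ≤ q * (q - 1) := by nlinarith
    nlinarith
  have hP : 0 < q ^ 6 - q ^ 3 + 1 := by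
    have : q ^ 6 - q ^ 3 + 1 = q ^ 3 * (q ^ 3 - 1) + 1 := by ring
    rw [this]
    have : 0 < q ^ 3 * (q ^ 3 - 1) := by
      apply mul_pos <;> linarith
    linarith
  have h1 : c * (q ^ 6 - q ^ 3 + 1) = X * D + e := by
    rw [hc, hD, ← h]; ring
  have hc1 : 1 ≤ c := by
    by_contra hcon
    have h2 : c ≤ 0 := by omega
    have h3 : c * (q ^ 6 - q ^ 3 + 1) ≤ 0 := mul_nonpos_of_nonpos_of_nonneg h2 hP.le
    have h4 : D ≤ X * D := by nlinarith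
    linarith
  have h2 : (X - c * (q + 1)) * D = c * (q ^ 4 - q + 1) - e := by
    have : (X - c * (q + 1)) * D = X * D - c * ((q + 1) * D) := by ring
    rw [this, show X * D = c * (q ^ 6 - q ^ 3 + 1) - e by linarith, hD]
    ring
  have hR : 0 < q ^ 4 - q + 1 := by nlinarith
  have h3 : 1 ≤ X - c * (q + 1) := by
    by_contra hcon
    have h4 : X - c * (q + 1) ≤ 0 := by omega
    have h5 : (X - c * (q + 1)) * D ≤ 0 := mul_nonpos_of_nonpos_of_nonneg h4 (by linarith)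
    have h6 : q ^ 4 - q + 1 ≤ c * (q ^ 4 - q + 1) := by nlinarith
    nlinarith
  have h4 : q - 1 ≤ c := by
    by_contra hcon
    have h5 : c ≤ q - 2 := by omega
    have h6 : c * (q ^ 4 - q + 1) ≤ (q - 2) * (q ^ 4 - q + 1) := mul_le_mul_of_nonneg_right h5 hR.le
    have h7 : D ≤ (X - c * (q + 1)) * D := by nlinarith
    have h8 : D - (q - 2) * (q ^ 4 - q + 1) = q ^ 4 - 2 * q + 2 := by rw [hD]; ring
    nlinarith
  have h5 : (q - 1) * (q + 1) ≤ c * (q + 1) := mul_le_mul_of_nonneg_right h4 (by linarith)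
  nlinarith

theorem gg (q : ℕ) : Nat.gcd 7 (q + 1) * Nat.gcd 3 (q + 1) ≤ 21 := by
  have h1 : Nat.gcd 7 (q + 1) ≤ 7 := Nat.gcd_le_left _ (by norm_num)
  have h2 : Nat.gcd 3 (q + 1) ≤ 3 := Nat.gcd_le_left _ (by norm_num)
  calc _ ≤ 7 * 3 := Nat.mul_le_mul h1 h2
    _ = 21 := rfl

theorem q_cases {p k : ℕ} (hp : p = 13 ∨ p = 17) (hk : 1 ≤ k) : p ^ k = 13 ∨ p ^ k = 17 ∨ 169 ≤ p ^ k := by
  rcases Nat.lt_or_ge k 2 with h | h
  · obtain rfl : k = 1 := by omega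
    rcases hp with rfl | rfl
    · left; norm_num
    · right; left; norm_num
  · right; right
    rcases hp with rfl | rfl
    · exact le_trans (by norm_num : 169 ≤ 13 ^ 2) (Nat.pow_le_pow_right (by norm_num) h)
    · exact le_trans (by norm_num : 169 ≤ 17 ^ 2) (Nat.pow_le_pow_right (by norm_num) h)

theorem gbound {q : ℕ} (h : q = 13 ∨ q = 17 ∨ 169 ≤ q) :
    3 * (Nat.gcd 7 (q + 1) * Nat.gcd 3 (q + 1)) * (q + 1) < 2 * q ^ 2 := by
  rcases h with rfl | rfl | h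
  · decide
  · decide
  · have h1 := gg q
    nlinarith

theorem q_mod {p k : ℕ} (hp : p = 13 ∨ p = 17) : p ^ k % 4 = 1 := by
  rcases hp with rfl | rfl <;> simp [Nat.pow_mod]

theorem q_ge {q : ℕ} (h : q = 13 ∨ q = 17 ∨ 169 ≤ q) : 13 ≤ q := by omega

/-- the natural number `Φ₁₄(q)` -/
def na (q : ℕ) : ℕ := (q ^ 7 + 1) / (q + 1)

theorem na_mul (q : ℕ) : (q + 1) * na q = q ^ 7 + 1 := by
  unfold na
  refine Nat.mul_div_cancel' ?_
  have h := Odd.nat_add_dvd_pow_add_pow q 1 (show Odd 7 by decide)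
  rwa [one_pow] at h

theorem na_cast (q : ℕ) : (na q : ℤ) = Pa q := by
  have h := na_mul q
  have h1 : ((q : ℤ) + 1) * (na q : ℤ) = (q : ℤ) ^ 7 + 1 := by exact_mod_cast h
  have h2 : ((q : ℤ) + 1) * Pa q = (q : ℤ) ^ 7 + 1 := by unfold Pa; ring
  have h3 : ((q : ℤ) + 1) ≠ 0 := by positivity
  exact mul_left_cancel₀ h3 (h1.trans h2.symm)

/-- the natural number `Φ₁₈(q)` -/
def nb (q : ℕ) : ℕ := q ^ 6 - q ^ 3 + 1

theorem nb_cast {q : ℕ} (hq : 1 ≤ q) : (nb q : ℤ) = Pb q := by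
  unfold nb Pb
  have : q ^ 3 ≤ q ^ 6 := Nat.pow_le_pow_right hq (by norm_num)
  push_cast [Nat.cast_sub this]
  ring

theorem g7_dvd (q : ℕ) : Nat.gcd 7 (q + 1) ∣ na q := by
  have h1 : (Nat.gcd 7 (q + 1) : ℤ) ∣ Pa q := by
    have h2 : Pa q = ((q : ℤ) + 1) * ((q : ℤ) ^ 5 - 2 * q ^ 4 + 3 * q ^ 3 - 4 * q ^ 2 + 5 * q - 6) + 7 := by
      unfold Pa; ring
    rw [h2]
    refine dvd_add (Dvd.dvd.mul_right ?_ _) ?_
    · exact_mod_cast Nat.gcd_dvd_right 7 (q + 1)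
    · exact_mod_cast Nat.gcd_dvd_left 7 (q + 1)
  rw [← na_cast] at h1
  exact_mod_cast h1

theorem g3_dvd {q : ℕ} (hq : 1 ≤ q) : Nat.gcd 3 (q + 1) ∣ nb q := by
  have h1 : (Nat.gcd 3 (q + 1) : ℤ) ∣ Pb q := by
    have h2 : Pb q = ((q : ℤ) + 1) * ((q : ℤ) ^ 5 - q ^ 4 + q ^ 3 - 2 * q ^ 2 + 2 * q - 2) + 3 := by
      unfold Pb; ring
    rw [h2]
    refine dvd_add (Dvd.dvd.mul_right ?_ _) ?_
    · exact_mod_cast Nat.gcd_dvd_right 3 (q + 1)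
    · exact_mod_cast Nat.gcd_dvd_left 3 (q + 1)
  rw [← nb_cast hq] at h1
  exact_mod_cast h1

theorem NN14 (q : ℕ) : Nat.gcd 7 (q + 1) * NN q 14 = na q := by
  have h1 : NN q 14 = (q ^ 7 + 1) / ((q + 1) * Nat.gcd 7 (q + 1)) := rfl
  rw [h1, ← Nat.div_div_eq_div_mul]
  exact Nat.mul_div_cancel' (g7_dvd q)

theorem NN18 {q : ℕ} (hq : 1 ≤ q) : Nat.gcd 3 (q + 1) * NN q 18 = nb q := by
  have h1 : NN q 18 = (q ^ 6 - q ^ 3 + 1) / Nat.gcd 3 (q + 1) := rfl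
  rw [h1]
  exact Nat.mul_div_cancel' (g3_dvd hq)

theorem TT14 {q : ℕ} (h4 : q % 4 = 1) : 2 * TT q 14 = (q + 1) * na q := by
  have h1 : TT q 14 = (q ^ 7 + 1) / Nat.gcd 2 (q - 1) := rfl
  have h2 : Nat.gcd 2 (q - 1) = 2 := Nat.gcd_eq_left (by omega)
  rw [h1, h2, na_mul]
  refine Nat.mul_div_cancel' ?_
  have h3 := Odd.nat_add_dvd_pow_add_pow q 1 (show Odd 7 by decide)
  rw [one_pow] at h3
  exact (show 2 ∣ q + 1 by omega).trans h3

theorem TT18 {q : ℕ} (h4 : q % 4 = 1) : 2 * TT q 18 = (q + 1) * nb q := by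
  have h1 : TT q 18 = (q + 1) * (q ^ 6 - q ^ 3 + 1) / Nat.gcd 2 (q - 1) := rfl
  have h2 : Nat.gcd 2 (q - 1) = 2 := Nat.gcd_eq_left (by omega)
  rw [h1, h2]
  exact Nat.mul_div_cancel' ((show 2 ∣ q + 1 by omega).mul_right _)

/-- **The size argument.** -/
theorem num_final {q : ℕ} (hq : q = 13 ∨ q = 17 ∨ 169 ≤ q) (h4 : q % 4 = 1) {X Y w α β : ℕ}
    (h1 : NN q 14 ∣ X) (h2 : X * w ∣ TT q 14) (h3 : NN q 18 ∣ Y) (hX : 0 < X)
    (hα : 1 ≤ α) (hαw : α ≤ 3 * w) (h : |(α : ℤ) * X - β * Y| ≤ 2) : False := by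
  have hq13 := q_ge hq
  obtain ⟨x, rfl⟩ := h1
  obtain ⟨y, rfl⟩ := h3
  set g7 := Nat.gcd 7 (q + 1) with hg7
  set g3 := Nat.gcd 3 (q + 1) with hg3
  have hG : g7 * g3 ≤ 21 := gg q
  have hg7p : 0 < g7 := Nat.gcd_pos_of_pos_left _ (by norm_num)
  have hg3p : 0 < g3 := Nat.gcd_pos_of_pos_left _ (by norm_num)
  have e14 := NN14 q
  have e18 := NN18 (q := q) (by omega)
  have hNpos : 0 < NN q 14 := Nat.pos_of_mul_pos_right hX
  have hxpos : 0 < x := Nat.pos_of_mul_pos_left hX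
  -- `2 x w ≤ (q + 1) g7`
  have hT : 2 * (x * w) ≤ (q + 1) * g7 := by
    have h5 : NN q 14 * (2 * (x * w)) ∣ NN q 14 * ((q + 1) * g7) := by
      have h6 : 2 * (NN q 14 * x * w) ∣ 2 * TT q 14 := Nat.mul_dvd_mul_left 2 h2
      rw [TT14 h4, ← e14] at h6
      have e1 : NN q 14 * (2 * (x * w)) = 2 * (NN q 14 * x * w) := by ring
      have e2 : NN q 14 * ((q + 1) * g7) = (q + 1) * (g7 * NN q 14) := by ring
      rw [e1, e2]
      exact h6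
    exact Nat.le_of_dvd (by positivity) (Nat.dvd_of_mul_dvd_mul_left hNpos h5)
  have hmain : ((α * g3 * x : ℕ) : ℤ) * Pa q - ((β * g7 * y : ℕ) : ℤ) * Pb q =
      (g7 * g3 : ℕ) * ((α : ℤ) * (NN q 14 * x : ℕ) - β * (NN q 18 * y : ℕ)) := by
    rw [← na_cast, ← nb_cast (q := q) (by omega), ← e14, ← e18]
    push_cast
    ring
  have hle := num_core (q := q) (X := ((α * g3 * x : ℕ) : ℤ)) (Y := ((β * g7 * y : ℕ) : ℤ)) (by exact_mod_cast hq13)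
    (by
      have : 0 < α * g3 * x := by positivity
      exact_mod_cast this) (e := (g7 * g3 : ℕ) * ((α : ℤ) * (NN q 14 * x : ℕ) - β * (NN q 18 * y : ℕ))) (by
      rw [abs_mul]
      have h5 : |((g7 * g3 : ℕ) : ℤ)| ≤ 21 := by
        rw [abs_of_nonneg (by positivity)]
        exact_mod_cast hG
      calc _ ≤ (21 : ℤ) * 2 := mul_le_mul h5 h (abs_nonneg _) (by norm_num)
        _ = 42 := by norm_num) hmain
  have hle' : q ^ 2 ≤ α * g3 * x := by exact_mod_cast hle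
  have hb := gbound hq
  rw [← hg7, ← hg3] at hb
  have h7 : 2 * (α * g3 * x) ≤ 3 * (g7 * g3) * (q + 1) := by
    calc 2 * (α * g3 * x) ≤ 2 * (3 * w * g3 * x) := by gcongr
      _ = 3 * g3 * (2 * (x * w)) := by ring
      _ ≤ 3 * g3 * ((q + 1) * g7) := by gcongr
      _ = 3 * (g7 * g3) * (q + 1) := by ring
  omega

end Cfsg.Agent.H706.ESeven
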