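import Cfsg.Agent.H706.ESeven.Comm
import Cfsg.Agent.H436.Names
import Mathlib.Tactic

/-!
# S3482, row `PΩ⁺` (helper706)
-/

set_option autoImplicit false

namespace Cfsg.Agent.H706.ESeven

open Cfsg Cfsg.Agent.H436 Cfsg.Agent.H962.E7 Cfsg.Agent.H72.AdjOrth Cfsg.Agent.H377

universe u

variable {p k : ℕ} {S : Type u} [Group S] {F : Type} [Field F] [Finite F] {m : ℕ}

theorem plus_core (R : Row p k S) (C : Ctx S F m 1) {a a' b x y w : ℕ} (ha : a = 14 ∨ a = 18)
    (ha' : a' = 14 ∨ a' = 18) (hb : b = 7 ∨ b = 9) (hx : Prim (p ^ k) a x) (hy : Prim (p ^ k) a' y)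
    (hw : Prim (p ^ k) b w) (hxv : ¬ x ∣ Nat.card F) (hyv : ¬ y ∣ Nat.card F)
    (hxc : ee (Nat.card F) x = 2 * (m - 1))
    (hyc : ee (Nat.card F) y = m - 1 ∨ ee (Nat.card F) y = m)
    (hwt : wO (Nat.card F) w + 2 ≤ m) : False := by
  have hm := C.hm
  obtain ⟨hxo, hx2⟩ := c4_odd (mem_C4 ha) hx
  obtain ⟨hyo, hy2⟩ := c4_odd (mem_C4 ha') hy
  have hX := dvd_of_even hx.prime hxv hxc
  by_cases hv3 : Nat.card F = 3
  · refine no_two R ha hx (C.two_blk (ε := -1) (ε' := -1) (by norm_num) hxo (elt_tor_minus (by omega) hX)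
      (elt_ell ?_))
    rw [hv3]
  · obtain ⟨s, hs, hs2, hsv⟩ := exists_odd_prime (v := Nat.card F) (Finite.one_lt_card) hv3
    have hso := hs.odd_of_ne_two hs2
    have hsv2 : s ∣ Nat.card F ^ 2 - 1 := by
      have e1 : Nat.card F ^ (2 * 1) - 1 = (Nat.card F ^ 1 + 1) * (Nat.card F ^ 1 - 1) := sub_mul_add
      rw [mul_one, pow_one] at e1
      rw [e1]
      rcases hsv with h | h
      · exact h.mul_right _
      · exact h.mul_left _
    obtain ⟨-, -, hes⟩ := one_of_dvd (F := F) hs hs2 hsv2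
    rcases hsv with h | h
    · have hne : x ≠ s := by
        rintro rfl
        omega
      exact clash_s R C ha hb hx hw hwt hs hs2 (Or.inl h)
        (C.blk (ε := -1) (ε' := -1) (by norm_num) hxo hso ((Nat.coprime_primes hx.prime hs).2 hne)
          (elt_tor_minus (by omega) hX) (elt_ell h))
    · have hne : y ≠ s := by
        rintro rfl
        omega
      have hco := (Nat.coprime_primes hy.prime hs).2 hne
      refine clash_s R C ha' hb hy hw hwt hs hs2 (Or.inr h) ?_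
      rcases hyc with hyc | hyc
      · exact C.blk (ε := 1) (ε' := 1) (by norm_num) hyo hso hco
          (elt_tor_plus (by omega) (dvd_of_odd hyc)) (elt_hyp h)
      · refine C.of_odd (hyo.mul hso) (elt_tor_plus (by omega) (hco.mul_dvd_of_dvd_of_dvd (dvd_of_odd hyc) ?_))
        have h2 := Nat.sub_dvd_pow_sub_pow (Nat.card F) 1 m
        rw [one_pow] at h2
        exact h.trans h2

theorem plus_false (R : Row p k S) (C : Ctx S F m 1) : False := by
  have hm := C.hm
  rcases R.cas with hp | hp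
  · exact two_false R hp C
  obtain ⟨r, hr, hrd⟩ := ex_a R (a := 14) (Or.inl rfl)
  obtain ⟨t, ht, htd⟩ := ex_a R (a := 18) (Or.inr rfl)
  obtain ⟨b, hb, w, hw, hwd⟩ := ex_b R
  obtain ⟨hrv, hrt⟩ := top_a R C (Or.inl rfl) hr hrd
  obtain ⟨htv, htt⟩ := top_a R C (Or.inr rfl) ht htd
  have h1 := ee_ne R C (by decide) (by decide) (by decide) hr ht hrd hrv htv
  have f : ∀ {e : ℕ}, Top m 1 e → e = 2 * (m - 1) ∨ ((m - 1) % 2 = 1 ∧ e = m - 1) ∨ (m % 2 = 1 ∧ e = m) := by
    intro e h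
    rcases h with h | ⟨h2, h⟩ | ⟨-, h2, h⟩ | ⟨h, -⟩
    · exact Or.inl h
    · exact Or.inr (Or.inl ⟨Nat.odd_iff.1 h2, h⟩)
    · exact Or.inr (Or.inr ⟨Nat.odd_iff.1 h2, h⟩)
    · norm_num at h
  have hwt : wO (Nat.card F) w + 2 ≤ m := by
    rcases C.wt hw.prime (c4_odd (mem_C4' hb) hw).2 hwd with h | ⟨hwv, hwt⟩
    · exact h
    · exfalso
      have h2 := ee_ne R C (by decide) (mem_C4' hb) (by omega) hr hw hrd hrv hwv
      have h3 := ee_ne R C (by decide) (mem_C4' hb) (by omega) ht hw htd htv hwv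
      have h4 := f hrt
      have h5 := f htt
      have h6 := f hwt
      omega
  have h4 := f hrt
  have h5 := f htt
  rcases h4 with h4 | h4
  · exact plus_core R C (Or.inl rfl) (Or.inr rfl) hb hr ht hw hrv htv h4 (by omega) hwt
  · rcases h5 with h5 | h5
    · exact plus_core R C (Or.inr rfl) (Or.inl rfl) hb ht hr hw htv hrv h5 (by omega) hwt
    · omega

/-- **Row `PΩ⁺`** -/
theorem row_oplus {p k m u : ℕ} {S : Type u} [Group S] [Finite S] (R : Row p k S) (hg : IsNamed (.oplus m u) S) :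
    False := by
  obtain ⟨F, _, _, hF, ⟨e⟩⟩ := hg.real
  exact plus_false R (ctx_plus (F := F) hg.cond.1 e)

end Cfsg.Agent.H706.ESeven
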