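import Cfsg.Agent.H706.ESeven.Num
import Cfsg.Agent.H436.Ppd
import Mathlib.Tactic

/-!
# S3482: consequences of `Row` (helper706)

* `no_two` : the primes of the classes 14, 18 are not adjacent to 2; `no_two'` : `p = 2`, all four classes;
* `clash` : no odd prime is adjacent to a prime of class 14 or 18 and to a prime of class 7 or 9;
* `ex_b` : a prime of class 7 or 9 divides `|S|`; `ex_a` : primes of the classes 14, 18.
-/

set_option autoImplicit false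

namespace Cfsg.Agent.H706.ESeven

open Cfsg.Agent.H436 Cfsg.Agent.H962.E7

universe u

theorem two_le_q {p k : ℕ} {S : Type u} [Group S] (R : Row p k S) : 2 ≤ p ^ k :=
  le_trans R.hp.two_le (Nat.le_self_pow (by have := R.hk; omega) p)

/-- `q ^ i ≡ -1`, `q ^ j ≡ 1` with odd exponents -/
theorem odd_clash {q i j s : ℕ} (hq : 1 ≤ q) (hi : Odd i) (hj : Odd j) (h1 : s ∣ q ^ i + 1) (h2 : s ∣ q ^ j - 1) :
    s ∣ 2 := by
  have h3 : s ∣ q ^ (i * j) + 1 := by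
    rw [pow_mul]
    have := hj.nat_add_dvd_pow_add_pow (q ^ i) 1
    rw [one_pow] at this
    exact h1.trans this
  have h4 : s ∣ q ^ (i * j) - 1 := by
    rw [mul_comm i j, pow_mul]
    have := Nat.sub_dvd_pow_sub_pow (q ^ j) 1 i
    rw [one_pow] at this
    exact h2.trans this
  have h5 := Nat.dvd_sub h3 h4
  have h6 : 1 ≤ q ^ (i * j) := Nat.one_le_pow _ _ hq
  rwa [show q ^ (i * j) + 1 - (q ^ (i * j) - 1) = 2 by omega] at h5

theorem nb_mul {q : ℕ} (hq : 1 ≤ q) : (q ^ 3 + 1) * (q ^ 6 - q ^ 3 + 1) = q ^ 9 + 1 := by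
  have h : q ^ 3 ≤ q ^ 6 := Nat.pow_le_pow_right hq (by norm_num)
  zify [h]
  ring

theorem nc_mul {q : ℕ} (hq : 1 ≤ q) : (q ^ 3 - 1) * (q ^ 6 + q ^ 3 + 1) = q ^ 9 - 1 := by
  have h : 1 ≤ q ^ 3 := Nat.one_le_pow _ _ hq
  have h' : 1 ≤ q ^ 9 := Nat.one_le_pow _ _ hq
  zify [h, h']
  ring

theorem TT_top {q a : ℕ} (hq : 2 ≤ q) (ha : a = 14 ∨ a = 18) : ∃ i, Odd i ∧ TT q a ∣ q ^ i + 1 := by
  have h2 : q % 2 = 0 ∨ q % 2 = 1 := Nat.mod_two_eq_zero_or_one q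
  have hg : Nat.gcd 2 (q - 1) ∣ q + 1 := by
    rcases h2 with h | h
    · rw [Nat.Coprime.gcd_eq_one (Nat.coprime_two_left.2 (by rw [Nat.odd_iff]; omega))]
      exact one_dvd _
    · exact (Nat.gcd_dvd_left _ _).trans (by omega)
  rcases ha with rfl | rfl
  · refine ⟨7, by decide, ?_⟩
    have h3 : TT q 14 = (q ^ 7 + 1) / Nat.gcd 2 (q - 1) := rfl
    rw [h3]
    refine Nat.div_dvd_of_dvd (hg.trans ?_)
    have h4 := Odd.nat_add_dvd_pow_add_pow q 1 (show Odd 7 by decide)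
    rwa [one_pow] at h4
  · refine ⟨9, by decide, ?_⟩
    have h3 : TT q 18 = (q + 1) * (q ^ 6 - q ^ 3 + 1) / Nat.gcd 2 (q - 1) := rfl
    rw [h3]
    refine (Nat.div_dvd_of_dvd (hg.mul_right _)).trans ?_
    rw [← nb_mul (by omega)]
    refine Nat.mul_dvd_mul_right ?_ _
    have h4 := Odd.nat_add_dvd_pow_add_pow q 1 (show Odd 3 by decide)
    rwa [one_pow] at h4

theorem TT_bot {q b : ℕ} (hq : 2 ≤ q) (hb : b = 7 ∨ b = 9) : ∃ j, Odd j ∧ TT q b ∣ q ^ j - 1 := by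
  rcases hb with rfl | rfl
  · refine ⟨7, by decide, ?_⟩
    have h3 : TT q 7 = (q ^ 7 - 1) / Nat.gcd 2 (q - 1) := rfl
    rw [h3]
    refine Nat.div_dvd_of_dvd ((Nat.gcd_dvd_right _ _).trans ?_)
    have := Nat.sub_dvd_pow_sub_pow q 1 7
    rwa [one_pow] at this
  · refine ⟨9, by decide, ?_⟩
    have h3 : TT q 9 = (q - 1) * (q ^ 6 + q ^ 3 + 1) / Nat.gcd 2 (q - 1) := rfl
    rw [h3]
    refine (Nat.div_dvd_of_dvd ((Nat.gcd_dvd_right _ _).mul_right _)).trans ?_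
    rw [← nc_mul (by omega)]
    refine Nat.mul_dvd_mul_right ?_ _
    have := Nat.sub_dvd_pow_sub_pow q 1 3
    rwa [one_pow] at this

/-- `q ≡ 1 (mod 4)` -/
theorem TT_odd {q a : ℕ} (h4 : q % 4 = 1) (ha : a = 14 ∨ a = 18) : TT q a % 2 = 1 := by
  have hp : ∀ n, q ^ n % 4 = 1 := fun n => by simp [Nat.pow_mod, h4]
  rcases ha with rfl | rfl
  · have h1 := TT14 h4
    rw [na_mul] at h1
    have h2 := hp 7
    omega
  · have h1 := TT18 h4
    have h2 := hp 6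
    have h3 := hp 3
    have h5 : q ^ 3 ≤ q ^ 6 := Nat.pow_le_pow_right (by omega) (by norm_num)
    have h6 : nb q % 4 = 1 := by
      unfold nb
      omega
    have h7 : ((q + 1) * nb q) % 4 = 2 := by
      rw [Nat.mul_mod, h6, show (q + 1) % 4 = 2 by omega]
    omega

/-- `q` even -/
theorem TT_odd' {q a : ℕ} (hq : 2 ≤ q) (h2 : q % 2 = 0) (ha : a ∈ C4) : TT q a % 2 = 1 := by
  have hg : Nat.gcd 2 (q - 1) = 1 := Nat.coprime_two_left.2 (by rw [Nat.odd_iff]; omega)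
  have hp : ∀ n, n ≠ 0 → q ^ n % 2 = 0 := fun n hn => by
    rw [Nat.pow_mod, h2, Nat.zero_pow (Nat.pos_of_ne_zero hn)]
  have h7 := hp 7 (by norm_num)
  have h6 := hp 6 (by norm_num)
  have h3 := hp 3 (by norm_num)
  have hle : q ^ 3 ≤ q ^ 6 := Nat.pow_le_pow_right (by omega) (by norm_num)
  have h1le : 1 ≤ q ^ 7 := Nat.one_le_pow _ _ (by omega)
  have hC : a = 7 ∨ a = 9 ∨ a = 14 ∨ a = 18 := by simpa [C4] using ha
  rcases hC with rfl | rfl | rfl | rfl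
  · change (q ^ 7 - 1) / Nat.gcd 2 (q - 1) % 2 = 1
    rw [hg, Nat.div_one]
    omega
  · change (q - 1) * (q ^ 6 + q ^ 3 + 1) / Nat.gcd 2 (q - 1) % 2 = 1
    rw [hg, Nat.div_one, ← Nat.odd_iff]
    refine Odd.mul ?_ ?_ <;> (rw [Nat.odd_iff]; omega)
  · change (q ^ 7 + 1) / Nat.gcd 2 (q - 1) % 2 = 1
    rw [hg, Nat.div_one]
    omega
  · change (q + 1) * (q ^ 6 - q ^ 3 + 1) / Nat.gcd 2 (q - 1) % 2 = 1
    rw [hg, Nat.div_one, ← Nat.odd_iff]
    refine Odd.mul ?_ ?_ <;> (rw [Nat.odd_iff]; omega)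

section row

variable {p k : ℕ} {S : Type u} [Group S]

theorem mem_C4 {a : ℕ} (ha : a = 14 ∨ a = 18) : a ∈ C4 := by
  rcases ha with rfl | rfl <;> decide

theorem mem_C4' {b : ℕ} (hb : b = 7 ∨ b = 9) : b ∈ C4 := by
  rcases hb with rfl | rfl <;> decide

theorem C4_sub {a : ℕ} (ha : a ∈ C4) : a ∈ C8 := by
  have hC : a = 7 ∨ a = 9 ∨ a = 14 ∨ a = 18 := by simpa [C4] using ha
  rcases hC with rfl | rfl | rfl | rfl <;> decide

/-- all four classes, `p = 2` -/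
theorem no_two' (R : Row p k S) (hp : p = 2) {a : ℕ} (ha : a ∈ C4) {r : ℕ} (h : Prim (p ^ k) a r) :
    ¬ ∃ g : S, orderOf g = 2 * r := by
  rintro ⟨g, hg⟩
  have h1 := R.tor a ha g r h (hg ▸ Dvd.intro_left 2 rfl)
  rw [hg] at h1
  have h2 : (p ^ k) % 2 = 0 := by
    rw [hp, Nat.pow_mod]
    simp [show k ≠ 0 by have := R.hk; omega]
  have h3 := TT_odd' (two_le_q R) h2 ha
  have h4 : 2 ∣ TT (p ^ k) a := (Dvd.intro _ rfl).trans h1
  omega

/-- the classes 14, 18 -/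
theorem no_two (R : Row p k S) {a : ℕ} (ha : a = 14 ∨ a = 18) {r : ℕ} (h : Prim (p ^ k) a r) :
    ¬ ∃ g : S, orderOf g = 2 * r := by
  rcases R.cas with hp | hp
  · exact no_two' R hp (mem_C4 ha) h
  · rintro ⟨g, hg⟩
    have h1 := R.tor a (mem_C4 ha) g r h (hg ▸ Dvd.intro_left 2 rfl)
    rw [hg] at h1
    have h3 := TT_odd (q_mod (k := k) hp) ha
    have h4 : 2 ∣ TT (p ^ k) a := (Dvd.intro _ rfl).trans h1
    omega

theorem clash (R : Row p k S) {a b r w s : ℕ} (ha : a = 14 ∨ a = 18) (hb : b = 7 ∨ b = 9) (hr : Prim (p ^ k) a r)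
    (hw : Prim (p ^ k) b w) (hs : s.Prime) (hs2 : s ≠ 2) (h1 : ∃ x : S, orderOf x = r * s)
    (h2 : ∃ x : S, orderOf x = w * s) : False := by
  obtain ⟨x, hx⟩ := h1
  obtain ⟨y, hy⟩ := h2
  have h3 := R.tor a (mem_C4 ha) x r hr (hx ▸ Dvd.intro s rfl)
  have h4 := R.tor b (mem_C4' hb) y w hw (hy ▸ Dvd.intro s rfl)
  obtain ⟨i, hi, h5⟩ := TT_top (two_le_q R) ha
  obtain ⟨j, hj, h6⟩ := TT_bot (two_le_q R) hb
  have h7 : s ∣ 2 := odd_clash (by have := two_le_q R; omega) hi hj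
    (((Dvd.intro_left r rfl).trans (hx ▸ h3)).trans h5) (((Dvd.intro_left w rfl).trans (hy ▸ h4)).trans h6)
  exact hs2 ((Nat.prime_dvd_prime_iff_eq hs Nat.prime_two).1 h7)

theorem ex_of_fl (R : Row p k S) {a : ℕ} (ha : a ∈ C4) (h : Fl S (p ^ k) a) :
    ∃ r, Prim (p ^ k) a r ∧ r ∣ Nat.card S := by
  have hC : a = 7 ∨ a = 9 ∨ a = 14 ∨ a = 18 := by simpa [C4] using ha
  obtain ⟨r, hr⟩ := exists_prim (e := a) (two_le_q R) (by omega) (by omega)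
  exact ⟨r, hr, h.dvd r hr⟩

theorem ex_a (R : Row p k S) {a : ℕ} (ha : a = 14 ∨ a = 18) : ∃ r, Prim (p ^ k) a r ∧ r ∣ Nat.card S :=
  ex_of_fl R (mem_C4 ha) (R.top a (by rcases ha with rfl | rfl <;> decide))

theorem ex_b (R : Row p k S) : ∃ b, (b = 7 ∨ b = 9) ∧ ∃ w, Prim (p ^ k) b w ∧ w ∣ Nat.card S := by
  rcases R.one 7 (by decide) 9 (by decide) (by decide) with h | h
  · exact ⟨7, Or.inl rfl, ex_of_fl R (by decide) h⟩
  · exact ⟨9, Or.inr rfl, ex_of_fl R (by decide) h⟩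

end row

end Cfsg.Agent.H706.ESeven
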